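import Groth.Agent.AlgSp2.ModApprox.Subobjects
import Groth.Agent.ModEtQCoh.SuppSplit
import Groth.Agent.AlgSpBasic.SepLocal
import Groth.Agent.AlgSpBasic.Immersion
import Groth.Agent.AlgSpBasic.IntegralCover

/-!
# Extending finite type submodules from quasi-compact etale subspaces
-/

set_option autoImplicit false
set_option backward.isDefEq.respectTransparency.types false
set_option linter.style.haveILetI false
set_option maxHeartbeats 1600000
universe u

open CategoryTheory CategoryTheory.Limits AlgebraicGeometry Opposite AlgSp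

namespace Groth.AlgSp2.ModApprox

open Groth.ModEtQCoh Groth.ModEtQCoh.AffinePres Groth.ModEtQCoh.CoherentUnion

noncomputable section

section values

universe v v₁ v₂ u₁ u₂ w
open CategoryTheory.Functor
variable {C : Type u₁} [Category.{v₁} C] {D : Type u₂} [Category.{v₂} D] {J : GrothendieckTopology C}
  {K : GrothendieckTopology D} {F : C ⥤ D} {G : D ⥤ C} (adj : F ⊣ G) {R : Sheaf J RingCat.{w}} {R' : Sheaf K RingCat.{w}}
  [F.IsContinuous J K] [G.IsContinuous K J]
  (φ : R ⟶ (F.sheafPushforwardContinuous RingCat.{w} J K).obj R')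
  (ψ : R' ⟶ (G.sheafPushforwardContinuous RingCat.{w} K J).obj R)
  (H₁ : Functor.whiskerRight (NatTrans.op adj.counit) R'.obj = ψ.hom ≫ G.op.whiskerLeft φ.hom)
  (H₂ : φ.hom ≫ F.op.whiskerLeft ψ.hom ≫ Functor.whiskerRight (NatTrans.op adj.unit) R.obj = 𝟙 R.obj)

/-- A map after the unit of a pushforward adjunction, on sections. -/
theorem unit_push_zero_iff (M : SheafOfModules.{v} R') {N : SheafOfModules.{v} R}
    (π : (SheafOfModules.pushforward.{v} φ).obj M ⟶ N) (U : Dᵒᵖ) (x : M.val.obj U) :
    (((SheafOfModules.pushforwardPushforwardAdj adj φ ψ H₁ H₂).unit.app M ≫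
        (SheafOfModules.pushforward.{v} ψ).map π).val.app U).hom x = 0 ↔
      (π.val.app (G.op.obj U)).hom ((M.val.map (adj.counit.app U.unop).op).hom x) = 0 :=
  Iff.rfl

end values

variable {S : Scheme.{u}} {U X : Sp S} (f : U ⟶ X) (he : RepWith @Etale f)

/-- Restriction to `U`. -/
abbrev res : ModEt X ⥤ ModEt U := SheafOfModules.pushforward.{u + 1} (postHomEt he)

/-- Sections of the restriction along the maps of `U`. -/
theorem mono_res_map {M N : ModEt X} (p : M ⟶ N) [Mono p] : Mono ((res f he).map p) :=
  ⟨fun u v h => hom_ext_affine fun E _ s =>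
    appM_injective_of_mono p ((postEt he).obj E)
      ((appM_comp u ((res f he).map p) E s).symm.trans
        ((congrArg (fun k => appM k E s) h).trans (appM_comp v ((res f he).map p) E s)))⟩

/-- The part over `U` of an object of `U` is itself. -/
def backHom [Mono f] (W : EtOver U) : (EtOver.bc he.1).obj ((postEt he).obj W) ⟶ W :=
  EtOver.homMk (he.1.snd ((postEt he).obj W).obj.hom) ((cancel_mono f).1
    ((Category.assoc _ _ _).trans (he.1.w ((postEt he).obj W).obj.hom).symm))

theorem post_backHom [Mono f] (W : EtOver U) :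
    (postEt he).map (backHom f he W) = (postEtAdj he.1 he).counit.app ((postEt he).obj W) :=
  EtOver.hom_ext _ _ (Category.id_comp (he.1.snd ((postEt he).obj W).obj.hom)).symm

/-- The morphism whose kernel is the preimage. -/
def overMap {F : ModEt X} {Q : ModEt U} (π : (res f he).obj F ⟶ Q) : F ⟶ (pushModEt he.1).obj Q :=
  (restrictEtAdj he.1 he).unit.app F ≫ (pushModEt he.1).map π

theorem overMap_zero_iff {F : ModEt X} {Q : ModEt U} (π : (res f he).obj F ⟶ Q) (E : EtOver X)
    (x : sectModEt F E) :
    appM (overMap f he π) E x = 0 ↔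
      (π.val.app (op ((EtOver.bc he.1).obj E))).hom
        ((F.val.map ((postEtAdj he.1 he).counit.app E).op).hom x) = 0 := by
  delta overMap restrictEtAdj
  exact unit_push_zero_iff (postEtAdj he.1 he) (postHomEt he) (bcRingHom he.1) _ _ F π (op E) x

/-- Sections killed on `U` are killed by the map to the direct image. -/
theorem overMap_eq_zero [Mono f] {F : ModEt X} {Q : ModEt U} (π : (res f he).obj F ⟶ Q) (W : EtOver U)
    (x : sectModEt ((res f he).obj F) W) (hx : appM π W x = 0) :
    appM (overMap f he π) ((postEt he).obj W) x = 0 := by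
  refine (overMap_zero_iff f he π _ x).2 ?_
  rw [← post_backHom f he W]
  show appM π _ (resM ((res f he).obj F) (backHom f he W) x) = 0
  rw [appM_resM, hx, map_zero]

/-- The restriction of the kernel is killed. -/
theorem res_kernel_comp {F : ModEt X} {Q : ModEt U} (π : (res f he).obj F ⟶ Q) {N : ModEt X} (n : N ⟶ F)
    (hn : n ≫ overMap f he π = 0) : (res f he).map n ≫ π = 0 := by
  refine ((restrictEtAdj he.1 he).homEquiv _ _).injective ?_
  rw [Adjunction.homEquiv_unit, Adjunction.homEquiv_unit]
  haveI : (pushModEt he.1).PreservesZeroMorphisms := inferInstance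
  rw [Functor.map_zero, comp_zero, Functor.map_comp, ← Category.assoc]
  refine (congrArg (· ≫ (pushModEt he.1).map π) ((restrictEtAdj he.1 he).unit.naturality n).symm).trans ?_
  exact (Category.assoc _ _ _).trans hn

theorem isQuasicoherent_res (hX : IsAlgSpace X) (F : ModEt X) [F.IsQuasicoherent] :
    ((res f he).obj F).IsQuasicoherent :=
  haveI := PullExist.isRightAdjoint_push he.1
  ObjectProperty.prop_of_iso (SheafOfModules.isQuasicoherent (OEtRing U)) ((pullIsoRestrict he.1 he).app F)
    (isQuasicoherent_pull he.1 hX F)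

/-- A finite type submodule of a restriction extends. -/
theorem exists_extension [QuasiSeparatedSpace ↥S] [Mono f] (hX : IsAlgSpace X) (hqc : IsQuasiCompactSp X)
    (hqs : IsQuasiSeparatedSp X) (hU : IsAlgSpace U) (hUqc : IsQuasiCompactSp U)
    (hfqs : RepWith @QuasiSeparated f)
    (F : ModEt X) [F.IsQuasicoherent] (G : ModEt U) [G.IsQuasicoherent] [G.IsFiniteType]
    (g : G ⟶ (res f he).obj F) [Mono g] :
    ∃ (G' : ModEt X) (g' : G' ⟶ F), Mono g' ∧ G'.IsQuasicoherent ∧ G'.IsFiniteType ∧
      ∃ e : (res f he).obj G' ≅ G, e.hom ≫ g = (res f he).map g' := by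
  classical
  haveI := isQuasicoherent_res f he hX F
  haveI : (cokernel g).IsQuasicoherent :=
    isQuasicoherent_of_hasBC (hasBC_cokernel (hasBC_of_isQuasicoherent _) (hasBC_of_isQuasicoherent _) g)
  haveI := isQuasicoherent_push he.1 (Groth.AlgSpBasic.repWith_of_isQuasiCompactMor he.1
    (Groth.AlgSpBasic.isQuasiCompactMor_of_source hU hX hUqc hqs f)) hfqs (cokernel g)
  let m := overMap f he (cokernel.π g)
  obtain ⟨F', n, hn, hF', hnm, hlift⟩ : ∃ (F' : ModEt X) (n : F' ⟶ F), Mono n ∧ F'.IsQuasicoherent ∧
      n ≫ m = 0 ∧ ∀ (E : EtOver X) (x : sectModEt F E), appM m E x = 0 → ∃ z, appM n E z = x :=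
    ⟨kernel m, kernel.ι m, inferInstance,
      isQuasicoherent_of_hasBC (hasBC_kernel (hasBC_of_isQuasicoherent F) (hasBC_of_isQuasicoherent _) m),
      kernel.condition m, fun E x hx => exists_preimage_kernel m hx⟩
  obtain ⟨I, i1, i2, D, c, hfp, ⟨hc⟩, rfl⟩ := exists_fp_system hX hqc hqs F'
  obtain ⟨V, q, hV, hqe, hqs'⟩ := Groth.AlgSpBasic.exists_affine_chart hU hUqc
  obtain ⟨W, hW, hsurj⟩ : ∃ W : EtOver U, IsAffine W.obj.left.left ∧
      Function.Surjective (Points.ofPt W.obj.hom) :=
    ⟨AlgSp.EtOver.mk q hqe, hV, Groth.AlgSpBasic.surjective_ofPt_of_repWith hqs'⟩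
  haveI : IsAffine ((postEt he).obj W).obj.left.left := hW
  obtain ⟨T, hT⟩ := (finite_sectModEt G W).fg_top
  choose z hz using fun y : sectModEt G W => hlift ((postEt he).obj W) (appM g W y)
    (overMap_eq_zero f he (cokernel.π g) W _ (appM_comp_eq_zero (cokernel.condition g) W y))
  choose L t ht using fun y : sectModEt G W => ColimSections.exists_stage hc ((postEt he).obj W) (z y)
  obtain ⟨i, hi⟩ := IsFiltered.sup_objs_exists (T.image L)
  haveI := hfp i
  let N := img (c.ι.app i)
  haveI hNq : (Subobject.underlying.obj N).IsQuasicoherent := isQuasicoherent_img (M := c.pt) (c.ι.app i)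
  haveI hNf : (Subobject.underlying.obj N).IsFiniteType := isFiniteType_img (M := c.pt) (c.ι.app i)
  let g' : Subobject.underlying.obj N ⟶ F := N.arrow ≫ n
  haveI : Mono g' := mono_comp _ _
  haveI := mono_res_map f he g'
  have h0 : (res f he).map g' ≫ cokernel.π g = 0 :=
    res_kernel_comp f he (cokernel.π g) g' ((Category.assoc _ _ _).trans (by rw [hnm, comp_zero]))
  let d : (res f he).obj (Subobject.underlying.obj N) ⟶ G := Abelian.monoLift g ((res f he).map g') h0
  have hd : d ≫ g = (res f he).map g' := Abelian.monoLift_comp _ _ _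
  haveI : Mono d := mono_of_mono_fac hd
  have hgen : ∀ y ∈ T, appM (cokernel.π d) W y = 0 := fun y hy => by
    let l := factorThruKernelSubobject (cokernel.π (c.ι.app i)) (c.ι.app i) (cokernel.condition _)
    let b : sectModEt (Subobject.underlying.obj N) ((postEt he).obj W) :=
      appM l _ (appM (D.map (hi (Finset.mem_image_of_mem L hy)).some) _ (t y))
    have hb : appM N.arrow ((postEt he).obj W) b = z y := by
      refine (appM_comp _ _ _ _).symm.trans ?_
      rw [factorThruKernelSubobject_comp_arrow]
      exact (ColimSections.appM_w (c := c) _ _ (t y)).trans (ht y)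
    have hy' : appM d W b = y := by
      refine appM_injective_of_mono g W ?_
      refine (appM_comp d g W b).symm.trans ((congrArg (fun k => appM k W b) hd).trans ?_)
      exact (appM_comp N.arrow n ((postEt he).obj W) b).trans ((congrArg _ hb).trans (hz y))
    rw [← hy']
    exact appM_comp_eq_zero (cokernel.condition d) W b
  have hsurj' : cokernel.π d = 0 := by
    refine eq_zero_of_chart (Groth.AlgSpBasic.isQuasiSeparatedSp_of_mono hqs f) hsurj _ fun y => ?_
    have hy : y ∈ Submodule.span (fnA W) (T : Set _) := hT ▸ Submodule.mem_top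
    induction hy using Submodule.span_induction with
    | mem y hy => exact hgen y hy
    | zero => exact map_zero _
    | add y y' _ _ h h' => rw [map_add, h, h', add_zero]
    | smul r y _ h => rw [map_smul, h, smul_zero]
  haveI : Epi d := Abelian.epi_of_cokernel_π_eq_zero _ hsurj'
  haveI : IsIso d := isIso_of_mono_of_epi d
  exact ⟨_, g', inferInstance, hNq, hNf, asIso d, hd⟩

end

end Groth.AlgSp2.ModApprox
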