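import Groth.Agent.AlgSp2.ModApprox.Subobjects

/-!
# Finite type modules as limits of finitely presented ones along surjections
-/

set_option autoImplicit false
set_option backward.isDefEq.respectTransparency.types false
set_option linter.style.haveILetI false
set_option maxHeartbeats 1600000
universe u

open CategoryTheory CategoryTheory.Limits AlgebraicGeometry Opposite AlgSp

namespace Groth.AlgSp2.ModApprox

open Groth.ModEtQCoh Groth.ModEtQCoh.AffinePres Groth.ModEtQCoh.CoherentUnion

noncomputable section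

variable {S : Scheme.{u}} [QuasiSeparatedSpace ↥S] {X : Sp S}

omit [QuasiSeparatedSpace ↥S] in
/-- A chain map through a composite. -/
theorem comp_eq_zero_of_le {A B K P Q : ModEt X} (o : A ⟶ B) (i : B ⟶ K) (i' : A ⟶ K) (k : K ⟶ P) (q : P ⟶ Q)
    (ho : o ≫ i = i') (h : (i ≫ k) ≫ q = 0) : (i' ≫ k) ≫ q = 0 := by
  subst ho
  simp only [Category.assoc] at h ⊢
  rw [h, comp_zero]

/-- Quotients of `P` by submodules of `K`. -/
def quot {K P : ModEt X} (k : K ⟶ P) (N : Subobject K) : ModEt X :=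
  cokernel (N.arrow ≫ k)

/-- The projection. -/
def quotπ {K P : ModEt X} (k : K ⟶ P) (N : Subobject K) : P ⟶ quot k N :=
  cokernel.π (N.arrow ≫ k)

instance {K P : ModEt X} (k : K ⟶ P) (N : Subobject K) : Epi (quotπ k N) :=
  inferInstanceAs (Epi (cokernel.π (N.arrow ≫ k)))

omit [QuasiSeparatedSpace ↥S] in
theorem arrow_quotπ {K P : ModEt X} (k : K ⟶ P) {N N' : Subobject K} (h : N ≤ N') :
    (N.arrow ≫ k) ≫ quotπ k N' = 0 :=
  comp_eq_zero_of_le (Subobject.ofLE _ _ h) N'.arrow N.arrow k (quotπ k N') (Subobject.ofLE_arrow h)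
    (cokernel.condition _)

omit [QuasiSeparatedSpace ↥S] in
theorem arrow_comp_p {K P M : ModEt X} (k : K ⟶ P) {p : P ⟶ M} (hk : k ≫ p = 0) (N : Subobject K) :
    (N.arrow ≫ k) ≫ p = 0 := by
  rw [Category.assoc, hk, comp_zero]

/-- Transition. -/
def quotMap {K P : ModEt X} (k : K ⟶ P) {N N' : Subobject K} (h : N ≤ N') : quot k N ⟶ quot k N' :=
  cokernel.desc _ (quotπ k N') (arrow_quotπ k h)

omit [QuasiSeparatedSpace ↥S] in
@[reassoc]
theorem quotπ_map {K P : ModEt X} (k : K ⟶ P) {N N' : Subobject K} (h : N ≤ N') :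
    quotπ k N ≫ quotMap k h = quotπ k N' := cokernel.π_desc _ _ _

/-- The map to `M`. -/
def quotTo {K P M : ModEt X} (k : K ⟶ P) {p : P ⟶ M} (hk : k ≫ p = 0) (N : Subobject K) : quot k N ⟶ M :=
  cokernel.desc _ p (arrow_comp_p k hk N)

omit [QuasiSeparatedSpace ↥S] in
theorem quotπ_to {K P M : ModEt X} (k : K ⟶ P) {p : P ⟶ M} (hk : k ≫ p = 0) (N : Subobject K) :
    quotπ k N ≫ quotTo k hk N = p :=
  cokernel.π_desc _ _ _

/-- The system of quotients. -/
def quotDiag {K P : ModEt X} (k : K ⟶ P) {J : Type (u + 1)} [PartialOrder J] (sub : J → Subobject K)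
    (hmono : Monotone sub) : J ⥤ ModEt X where
  obj j := quot k (sub j)
  map h := quotMap k (hmono (leOfHom h))
  map_id j := (cancel_epi (quotπ k (sub j))).1 (by rw [quotπ_map, Category.comp_id])
  map_comp {i j l} h h' := (cancel_epi (quotπ k (sub i))).1 (by rw [quotπ_map, quotπ_map_assoc, quotπ_map])

omit [QuasiSeparatedSpace ↥S] in
theorem quotTo_natural {K P M : ModEt X} (k : K ⟶ P) {p : P ⟶ M} (hk : k ≫ p = 0) {N N' : Subobject K}
    (h : N ≤ N') : quotMap k h ≫ quotTo k hk N' = quotTo k hk N :=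
  (cancel_epi (quotπ k N)).1 (by rw [quotπ_map_assoc, quotπ_to, quotπ_to])

omit [QuasiSeparatedSpace ↥S] in
/-- Quotients by an exhausting directed family of submodules of the kernel of a surjection. -/
theorem exists_epi_system_of_sub {K P M : ModEt X} [P.IsFinitePresentation] [M.IsQuasicoherent] (p : P ⟶ M)
    [Epi p] (k : K ⟶ P) (hk : k ≫ p = 0)
    (hker : ∀ (E : EtOver X) (b : sectModEt P E), appM p E b = 0 → ∃ κ, appM k E κ = b)
    {J : Type (u + 1)} [PartialOrder J] [IsDirected J (· ≤ ·)] [Nonempty J]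
    (sub : J → Subobject K) (hmono : Monotone sub) (hft : ∀ j, FTSub K (sub j))
    (hex : ∀ (E : EtOver X) [IsAffine E.obj.left.left] (κ : sectModEt K E),
      ∃ j z, appM (sub j).arrow E z = κ) :
    ∃ (J : Type (u + 1)) (_ : PartialOrder J) (_ : IsDirected J (· ≤ ·)) (_ : Nonempty J)
      (D : J ⥤ ModEt X) (ι : D ⟶ (Functor.const J).obj M),
      Nonempty (IsColimit (Cocone.mk M ι)) ∧ (∀ j, (D.obj j).IsFinitePresentation) ∧
        ∀ (j j' : J) (h : j ⟶ j'), Epi (D.map h) := by
  have hfp : ∀ j, (quot k (sub j)).IsFinitePresentation := fun j =>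
    haveI := (hft j).1
    haveI := (hft j).2
    isFinitePresentation_cokernel ((sub j).arrow ≫ k)
  let ι : quotDiag k sub hmono ⟶ (Functor.const J).obj M :=
    { app := fun j => quotTo k hk (sub j)
      naturality := fun j l h => (quotTo_natural k hk (hmono (leOfHom h))).trans (Category.comp_id _).symm }
  refine ⟨J, inferInstance, inferInstance, inferInstance, quotDiag k sub hmono, ι, ?_, hfp, fun j j' h => ?_⟩
  · refine isColimit_of_affine' _ (fun E _ t => ?_) fun E _ j a ha => ?_
    · obtain ⟨b, hb⟩ := appM_surjective_of_epi p E t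
      let j : J := Classical.arbitrary J
      refine ⟨j, appM (quotπ k (sub j)) E b, ?_⟩
      refine (appM_comp _ _ E b).symm.trans (Eq.trans ?_ hb)
      exact congrArg (fun q => appM q E b) (quotπ_to k hk (sub j))
    · haveI := hfp j
      haveI : (quot k (sub j)).IsQuasicoherent := inferInstance
      obtain ⟨b, rfl⟩ := appM_surjective_of_epi (quotπ k (sub j)) E a
      have hb : appM p E b = 0 :=
        ((congrArg (fun q => appM q E b) (quotπ_to k hk (sub j))).symm.trans (appM_comp _ _ E b)).trans ha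
      obtain ⟨κ, rfl⟩ := hker E b hb
      obtain ⟨i, z, rfl⟩ := hex E κ
      obtain ⟨m, hjm, him⟩ := exists_ge_ge j i
      refine ⟨m, homOfLE hjm, ?_⟩
      refine (appM_comp _ _ E _).symm.trans
        ((congrArg (fun q => appM q E _) (quotπ_map k (hmono hjm))).trans ?_)
      refine (congrArg (appM (quotπ k (sub m)) E) (appM_comp (sub i).arrow k E z).symm).trans ?_
      exact appM_comp_eq_zero (arrow_quotπ k (hmono him)) E z
  · haveI : Epi (quotπ k (sub j) ≫ (quotDiag k sub hmono).map h) := by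
      show Epi (quotπ k (sub j) ≫ quotMap k (hmono (leOfHom h)))
      rw [quotπ_map]; infer_instance
    exact epi_of_epi (quotπ k (sub j)) _

/-- Quotients by the stages of a system with colimit the kernel of a surjection. -/
theorem exists_epi_system_of_kernel {P M : ModEt X} [P.IsFinitePresentation] [M.IsQuasicoherent] (p : P ⟶ M)
    [Epi p] {I : Type (u + 1)} [SmallCategory I] [IsFiltered I] {D : I ⥤ ModEt X} (c : Cocone D)
    (hc : IsColimit c) (hfp : ∀ i, (D.obj i).IsFinitePresentation) [c.pt.IsQuasicoherent]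
    (k : c.pt ⟶ P) (hk : k ≫ p = 0)
    (hker : ∀ (E : EtOver X) (b : sectModEt P E), appM p E b = 0 → ∃ κ, appM k E κ = b) :
    ∃ (J : Type (u + 1)) (_ : PartialOrder J) (_ : IsDirected J (· ≤ ·)) (_ : Nonempty J)
      (D : J ⥤ ModEt X) (ι : D ⟶ (Functor.const J).obj M),
      Nonempty (IsColimit (Cocone.mk M ι)) ∧ (∀ j, (D.obj j).IsFinitePresentation) ∧
        ∀ (j j' : J) (h : j ⟶ j'), Epi (D.map h) := by
  classical
  let stage : I → Subobject c.pt := fun i => img (c.ι.app i)
  let e : Shrink.{u + 1} (Set.range stage) ≃ Set.range stage := (equivShrink _).symm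
  letI : PartialOrder (Shrink.{u + 1} (Set.range stage)) :=
    PartialOrder.lift (fun j => (e j).1) (Subtype.val_injective.comp e.injective)
  let mkJ : I → Shrink.{u + 1} (Set.range stage) := fun i => e.symm ⟨stage i, i, rfl⟩
  have hsub : ∀ i, (e (mkJ i)).1 = stage i := fun i => congrArg Subtype.val (e.apply_symm_apply _)
  have hmono : ∀ {i l : I}, (i ⟶ l) → stage i ≤ stage l := fun {i l} α =>
    le_img (comp_cokernel_mono c α (kernelSubobject_arrow_comp _))
  haveI : Nonempty (Shrink.{u + 1} (Set.range stage)) := ⟨mkJ IsFiltered.nonempty.some⟩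
  haveI : IsDirected (Shrink.{u + 1} (Set.range stage)) (· ≤ ·) := ⟨fun a b => by
    obtain ⟨i, hi⟩ := (e a).2
    obtain ⟨l, hl⟩ := (e b).2
    refine ⟨mkJ (IsFiltered.max i l), ?_, ?_⟩
    · show (e a).1 ≤ (e _).1
      rw [← hi, hsub]
      exact hmono (IsFiltered.leftToMax i l)
    · show (e b).1 ≤ (e _).1
      rw [← hl, hsub]
      exact hmono (IsFiltered.rightToMax i l)⟩
  refine exists_epi_system_of_sub p k hk hker (fun j => (e j).1) (fun _ _ h => h) (fun j => ?_) fun E _ κ => ?_
  · obtain ⟨i, hi⟩ := (e j).2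
    haveI := hfp i
    rw [← hi]
    exact ⟨isQuasicoherent_img (M := c.pt) (c.ι.app i), isFiniteType_img (M := c.pt) (c.ι.app i)⟩
  · obtain ⟨i, z, hz⟩ := ColimSections.exists_stage hc E κ
    let l := factorThruKernelSubobject (cokernel.π (c.ι.app i)) (c.ι.app i) (cokernel.condition _)
    refine ⟨mkJ i, ?_⟩
    rw [hsub i]
    refine ⟨appM l E z, ?_⟩
    refine (appM_comp _ _ E z).symm.trans (Eq.trans ?_ hz)
    exact congrArg (fun q => appM q E z) (factorThruKernelSubobject_comp_arrow _ _ _)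

/-- A finite type quasi-coherent module on a qcqs space is a directed colimit of finitely presented ones
with surjective transition maps. -/
theorem exists_epi_system (hX : IsAlgSpace X) (hqc : IsQuasiCompactSp X) (hqs : IsQuasiSeparatedSp X)
    (M : ModEt X) [M.IsQuasicoherent] [M.IsFiniteType] :
    ∃ (J : Type (u + 1)) (_ : PartialOrder J) (_ : IsDirected J (· ≤ ·)) (_ : Nonempty J)
      (D : J ⥤ ModEt X) (ι : D ⟶ (Functor.const J).obj M),
      Nonempty (IsColimit (Cocone.mk M ι)) ∧ (∀ j, (D.obj j).IsFinitePresentation) ∧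
        ∀ (j j' : J) (h : j ⟶ j'), Epi (D.map h) := by
  obtain ⟨I, i1, i2, D, c, hfp, ⟨hc⟩, rfl⟩ := exists_fp_system hX hqc hqs M
  obtain ⟨i, hi⟩ := exists_factor_stage c hc hX hqc hqs (𝟙 c.pt)
  rw [Category.id_comp] at hi
  haveI := hfp i
  haveI : Epi (c.ι.app i) := Abelian.epi_of_cokernel_π_eq_zero _ hi
  haveI : (kernel (c.ι.app i)).IsQuasicoherent := isQuasicoherent_of_hasBC
    (hasBC_kernel (hasBC_of_isQuasicoherent (D.obj i)) (hasBC_of_isQuasicoherent c.pt) _)
  obtain ⟨K, hKq, k, hk, hker⟩ : ∃ (K : ModEt X) (_ : K.IsQuasicoherent) (k : K ⟶ D.obj i),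
      k ≫ c.ι.app i = 0 ∧ ∀ (E : EtOver X) (b : sectModEt (D.obj i) E), appM (c.ι.app i) E b = 0 →
        ∃ κ, appM k E κ = b :=
    ⟨kernel (c.ι.app i), inferInstance, kernel.ι (c.ι.app i), kernel.condition _,
      fun E b hb => exists_preimage_kernel (c.ι.app i) hb⟩
  obtain ⟨I', i1', i2', D', c', hfp', ⟨hc'⟩, rfl⟩ := exists_fp_system hX hqc hqs K
  exact exists_epi_system_of_kernel (c.ι.app i) c' hc' hfp' k hk hker

end

end Groth.AlgSp2.ModApprox
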