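import Groth.Agent.AlgSp3.ShriekEquiv
import Groth.Agent.ModEtQCoh.Coherent
import Groth.Agent.ModEtQCoh.Criterion
import Groth.Agent.ModEtQCoh.Morphisms
import Groth.Agent.ModEtQCoh.FinPres
import Mathlib.Algebra.Category.ModuleCat.Sheaf.PushforwardContinuous

/-!
# The small etale site does not see the base
-/

set_option autoImplicit false
set_option backward.isDefEq.respectTransparency false
set_option backward.isDefEq.respectTransparency.types false
universe u

open CategoryTheory CategoryTheory.Limits AlgebraicGeometry Opposite AlgSp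

namespace Groth.AlgSp2.ModApprox

open Groth.AlgSp3 Groth.AlgSpBasic Groth.ModEtQCoh

noncomputable section

variable {S S' : Scheme.{u}} (γ : S ⟶ S') (X : Sp S)

/-- The functor to the site of the space over the new base. -/
def toModel : EtOver X ⥤ EtOver ((shriek γ).obj X) where
  obj E := EtOver.mk ((shriekYonIso γ E.obj.left).inv ≫ (shriek γ).map E.obj.hom)
    (repWith_comp (repWith_isIso _) (repWith_shriek_map γ E.property))
  map {E E'} g := EtOver.homMk ((Over.map γ).map g.hom.left) (by
    show (yon S').map _ ≫ (shriekYonIso γ E'.obj.left).inv ≫ (shriek γ).map E'.obj.hom =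
      (shriekYonIso γ E.obj.left).inv ≫ (shriek γ).map E.obj.hom
    rw [← Category.assoc, yon_map_shriekYonIso_inv, Category.assoc, ← Functor.map_comp, EtOver.w g])
  map_id E := EtOver.hom_ext _ _ (Over.OverMorphism.ext rfl)
  map_comp g g' := EtOver.hom_ext _ _ (Over.OverMorphism.ext rfl)

variable {X} in
/-- The section of the extension attached to an object over the new base. -/
def pt (E : EtOver ((shriek γ).obj X)) : shriekObj γ X E.obj.left := yEquiv E.obj.hom

variable {X} in
/-- The scheme over the old base. -/
def objLeft (E : EtOver ((shriek γ).obj X)) : Over S := Over.mk (pt γ E).1.1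

variable {X} in
/-- Its structure map. -/
def objHom (E : EtOver ((shriek γ).obj X)) : (yon S).obj (objLeft γ E) ⟶ X := yEquiv.symm (pt γ E).2

variable {X} in
/-- The comparison of underlying objects. -/
def objIso (E : EtOver ((shriek γ).obj X)) : (Over.map γ).obj (objLeft γ E) ≅ E.obj.left :=
  Over.isoMk (Iso.refl _) ((Category.id_comp _).trans (pt γ E).1.2.symm)

variable {X} in
theorem objHom_spec (E : EtOver ((shriek γ).obj X)) :
    (yon S').map (objIso γ E).hom ≫ E.obj.hom =
      (shriekYonIso γ (objLeft γ E)).inv ≫ (shriek γ).map (objHom γ E) := by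
  refine yEquiv.injective ?_
  refine ((J S').uliftYonedaEquiv_naturality E.obj.hom (objIso γ E).hom).symm.trans ?_
  show shriekRes γ (overBase γ (pt γ E).1) (pt γ E) = _
  refine (shriekRes_overBase (pt γ E)).trans ?_
  show _ = (⟨⟨𝟙 E.obj.left.left ≫ (pt γ E).1.1, _⟩,
    (objHom γ E).hom.app _
      (ULift.up (Over.homMk (𝟙 E.obj.left.left) rfl :
        Over.mk (𝟙 E.obj.left.left ≫ (pt γ E).1.1) ⟶ objLeft γ E))⟩ :
    shriekObj γ X ((Over.map γ).obj (objLeft γ E)))
  refine shriekObj_ext _ _ (Category.id_comp (pt γ E).1.1).symm ?_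
  have h : (objHom γ E).hom.app (op (objLeft γ E)) ⟨𝟙 _⟩ = (pt γ E).2 :=
    (GrothendieckTopology.uliftYonedaEquiv_apply _ _).symm.trans (Equiv.apply_symm_apply _ _)
  refine (map_map_eq _ _ (Over.homMk (𝟙 _) rfl : Over.mk (𝟙 E.obj.left.left ≫ (pt γ E).1.1) ⟶
    objLeft γ E) ?_ _).trans ?_
  · exact Category.id_comp _
  · refine (congrArg _ h.symm).trans ((NatTrans.naturality_apply _ _ _).symm.trans (congrArg _ ?_))
    exact ULift.ext _ _ (Over.OverMorphism.ext (Category.comp_id _))

variable {X} in
theorem objHom_etale (E : EtOver ((shriek γ).obj X)) : RepWith @Etale (objHom γ E) := by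
  refine repWith_of_shriek_map γ ?_
  have h : (shriek γ).map (objHom γ E) = (shriekYonIso γ (objLeft γ E)).hom ≫
      (yon S').map (objIso γ E).hom ≫ E.obj.hom := by
    rw [objHom_spec γ E, Iso.hom_inv_id_assoc]
  rw [h]
  exact repWith_comp (repWith_isIso _) (repWith_comp (repWith_isIso _) E.property)

variable {X} in
theorem map_objLeft {E E' : EtOver ((shriek γ).obj X)} (g : E ⟶ E') :
    g.hom.left.left ≫ (pt γ E').1.1 = (pt γ E).1.1 := by
  have h : (shriekRes γ g.hom.left (pt γ E') : shriekObj γ X E.obj.left) = pt γ E :=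
    ((J S').uliftYonedaEquiv_naturality E'.obj.hom g.hom.left).trans (congrArg yEquiv (EtOver.w g))
  exact congrArg (fun p : shriekObj γ X E.obj.left => p.1.1) h

/-- The functor back to the site over the old base. -/
def ofModel : EtOver ((shriek γ).obj X) ⥤ EtOver X where
  obj E := EtOver.mk (objHom γ E) (objHom_etale γ E)
  map {E E'} g := EtOver.homMk (Over.homMk g.hom.left.left (map_objLeft γ g)) (by
    refine shriek_faithful γ ?_
    show (shriek γ).map ((yon S).map (Over.homMk g.hom.left.left (map_objLeft γ g) :
      objLeft γ E ⟶ objLeft γ E') ≫ objHom γ E') = (shriek γ).map (objHom γ E)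
    rw [Functor.map_comp, ← cancel_epi (shriekYonIso γ (objLeft γ E)).inv, ← Category.assoc,
      ← yon_map_shriekYonIso_inv, Category.assoc]
    refine (congrArg (_ ≫ ·) (objHom_spec γ E').symm).trans (Eq.trans ?_ (objHom_spec γ E))
    refine Eq.trans ?_ (congrArg (_ ≫ ·) (EtOver.w g))
    refine (Category.assoc _ _ _).symm.trans (Eq.trans ?_ (Category.assoc _ _ _))
    refine congrArg (· ≫ E'.obj.hom) (((yon S').map_comp _ _).symm.trans (Eq.trans ?_ ((yon S').map_comp _ _)))
    exact congrArg _ (Over.OverMorphism.ext ((Category.comp_id _).trans (Category.id_comp _).symm)))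
  map_id E := EtOver.hom_ext _ _ (Over.OverMorphism.ext rfl)
  map_comp g g' := EtOver.hom_ext _ _ (Over.OverMorphism.ext rfl)

theorem yon_map_isoMk {A B : Over S} (e : A ≅ B) (a : (yon S).obj A ⟶ X) (b : (yon S).obj B ⟶ X)
    (h : (yon S).map e.hom ≫ b = a) : (yon S).map e.inv ≫ a = b := by
  rw [← h, ← Category.assoc, ← Functor.map_comp, e.inv_hom_id, (yon S).map_id, Category.id_comp]

theorem pt_toModel (E : EtOver X) : (pt γ ((toModel γ X).obj E)).1.1 = E.obj.left.hom :=
  Category.id_comp _

/-- An object and the one read back from the model. -/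
def unitApp (E : EtOver X) : (ofModel γ X).obj ((toModel γ X).obj E) ≅ E :=
  ObjectProperty.isoMk _ (CostructuredArrow.isoMk
    (Over.isoMk (Iso.refl _) ((Category.id_comp _).trans (pt_toModel γ X E).symm)) (by
      refine shriek_faithful γ ?_
      have h := objHom_spec γ ((toModel γ X).obj E)
      rw [Functor.map_comp, ← cancel_epi (shriekYonIso γ (objLeft γ ((toModel γ X).obj E))).inv,
        ← Category.assoc, ← yon_map_shriekYonIso_inv, Category.assoc]
      exact (congrArg (fun l => (yon S').map l ≫ _) (Over.OverMorphism.ext rfl)).trans h))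

/-- An object over the new base and the one written from the old base. -/
def counitApp (E : EtOver ((shriek γ).obj X)) : (toModel γ X).obj ((ofModel γ X).obj E) ≅ E :=
  ObjectProperty.isoMk _ (CostructuredArrow.isoMk (objIso γ E) (objHom_spec γ E))

/-- The small etale site does not depend on the base. -/
def siteEquiv : EtOver X ≌ EtOver ((shriek γ).obj X) :=
  CategoryTheory.Equivalence.mk (toModel γ X) (ofModel γ X)
    (NatIso.ofComponents (fun E => (unitApp γ X E).symm) fun g =>
      EtOver.hom_ext _ _ (Over.OverMorphism.ext ((Category.comp_id _).trans (Category.id_comp _).symm)))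
    (NatIso.ofComponents (counitApp γ X) fun g =>
      EtOver.hom_ext _ _ (Over.OverMorphism.ext ((Category.comp_id _).trans (Category.id_comp _).symm)))

instance isContinuous_functor :
    (siteEquiv γ X).functor.IsContinuous (etTop X) (etTop ((shriek γ).obj X)) := by
  unfold etTop
  refine Functor.isContinuous_toGrothendieck_of_pullbacksPreservedBy (siteEquiv γ X).functor
    (etPre X) (etPre ((shriek γ).obj X)) (fun E R hR => ?_)
  obtain ⟨ι, Z, g, rfl⟩ := R.exists_eq_ofArrows
  rw [Precoverage.mem_comap_iff, Presieve.map_ofArrows, ofArrows_mem_etPre_iff]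
  exact (ofArrows_mem_etPre_iff Z g).1 hR

instance isContinuous_inverse :
    (siteEquiv γ X).inverse.IsContinuous (etTop ((shriek γ).obj X)) (etTop X) := by
  unfold etTop
  refine Functor.isContinuous_toGrothendieck_of_pullbacksPreservedBy (siteEquiv γ X).inverse
    (etPre ((shriek γ).obj X)) (etPre X) (fun E R hR => ?_)
  obtain ⟨ι, Z, g, rfl⟩ := R.exists_eq_ofArrows
  rw [Precoverage.mem_comap_iff, Presieve.map_ofArrows, ofArrows_mem_etPre_iff]
  exact (ofArrows_mem_etPre_iff Z g).1 hR

/-- The comparison of structure sheaves. -/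
def ringHom : OEtRing X ⟶ ((siteEquiv γ X).functor.sheafPushforwardContinuous RingCat.{u + 1}
    (etTop X) (etTop ((shriek γ).obj X))).obj (OEtRing ((shriek γ).obj X)) :=
  ⟨{ app := fun U => 𝟙 ((OEtRing X).obj.obj U)
     naturality := fun _ _ f => (Category.comp_id _).trans (Category.id_comp _).symm }⟩

/-- The comparison of structure sheaves, backwards. -/
def ringHomInv : OEtRing ((shriek γ).obj X) ⟶ ((siteEquiv γ X).inverse.sheafPushforwardContinuous
    RingCat.{u + 1} (etTop ((shriek γ).obj X)) (etTop X)).obj (OEtRing X) :=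
  ⟨{ app := fun U => 𝟙 ((OEtRing ((shriek γ).obj X)).obj.obj U)
     naturality := fun _ _ f => (Category.comp_id _).trans (Category.id_comp _).symm }⟩

/-- Modules on the two sites agree. -/
def modEquiv : ModEt ((shriek γ).obj X) ≌ ModEt X :=
  SheafOfModules.pushforwardPushforwardEquivalence (siteEquiv γ X) (ringHom γ X) (ringHomInv γ X)
    (by ext U x; rfl) (by ext U x; rfl)

instance isQuasicoherent_functor (N : ModEt ((shriek γ).obj X)) [N.IsQuasicoherent] :
    ((modEquiv γ X).functor.obj N).IsQuasicoherent := by
  refine isQuasicoherent_of_hasBC fun E E' _ _ g => ?_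
  haveI : IsAffine ((toModel γ X).obj E).obj.left.left := ‹IsAffine E.obj.left.left›
  haveI : IsAffine ((toModel γ X).obj E').obj.left.left := ‹IsAffine E'.obj.left.left›
  exact isBC_resM N ((toModel γ X).map g)

instance isQuasicoherent_inverse (M : ModEt X) [M.IsQuasicoherent] :
    ((modEquiv γ X).inverse.obj M).IsQuasicoherent := by
  refine isQuasicoherent_of_hasBC fun E E' _ _ g => ?_
  haveI : IsAffine ((ofModel γ X).obj E).obj.left.left := ‹IsAffine E.obj.left.left›
  haveI : IsAffine ((ofModel γ X).obj E').obj.left.left := ‹IsAffine E'.obj.left.left›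
  exact isBC_resM M ((ofModel γ X).map g)

theorem isFinitePresentation_functor (N : ModEt ((shriek γ).obj X)) [N.IsQuasicoherent]
    [N.IsFinitePresentation] : ((modEquiv γ X).functor.obj N).IsFinitePresentation := by
  refine isFinitePresentation_of_forall _ fun E _ => ?_
  haveI : IsAffine ((toModel γ X).obj E).obj.left.left := ‹IsAffine E.obj.left.left›
  exact finitePresentation_sectModEt N ((toModel γ X).obj E)

end

end Groth.AlgSp2.ModApprox
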