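import Groth.Agent.AlgSp2.ModApprox.System

/-!
# Finite type submodules of quasi-coherent modules on qcqs spaces
-/

set_option autoImplicit false
set_option backward.isDefEq.respectTransparency.types false
set_option linter.style.haveILetI false
set_option maxHeartbeats 1600000
universe w u

open CategoryTheory CategoryTheory.Limits AlgebraicGeometry Opposite AlgSp

namespace Groth.AlgSp2.ModApprox

open Groth.ModEtQCoh Groth.ModEtQCoh.AffinePres Groth.ModEtQCoh.CoherentUnion

noncomputable section

variable {S : Scheme.{u}} {X : Sp S}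

/-- Descent of a cocone over a filtered category of any size when sections surject and relations die. -/
theorem isColimit_of_affine' {J : Type*} [Category J] [IsFiltered J] {D : J ⥤ ModEt X}
    (c : Cocone D)
    (hs : ∀ (E : EtOver X) [IsAffine E.obj.left.left] (t : sectModEt c.pt E), ∃ j a, appM (c.ι.app j) E a = t)
    (hi : ∀ (E : EtOver X) [IsAffine E.obj.left.left] (j : J) (a : sectModEt (D.obj j) E),
      appM (c.ι.app j) E a = 0 → ∃ (k : J) (g : j ⟶ k), appM (D.map g) E a = 0) :
    Nonempty (IsColimit c) := by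
  classical
  have compat : ∀ (s : Cocone D) (E : EtOver X) [IsAffine E.obj.left.left] (j j' : J) (a : sectModEt (D.obj j) E)
      (a' : sectModEt (D.obj j') E), appM (c.ι.app j) E a = appM (c.ι.app j') E a' →
      appM (s.ι.app j) E a = appM (s.ι.app j') E a' := by
    intro s E _ j j' a a' e
    let m := IsFiltered.max j j'
    let z : sectModEt (D.obj m) E :=
      appM (D.map (IsFiltered.leftToMax j j')) E a - appM (D.map (IsFiltered.rightToMax j j')) E a'
    have hw : ∀ (c' : Cocone D), appM (N := c'.pt) (c'.ι.app m) E z =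
        appM (N := c'.pt) (c'.ι.app j) E a - appM (N := c'.pt) (c'.ι.app j') E a' := by
      intro c'
      refine (map_sub _ _ _).trans (congr_arg₂ (· - ·) ?_ ?_)
      · exact (appM_comp _ _ E a).symm.trans (congrArg (fun k => appM k E a) (c'.w _))
      · exact (appM_comp _ _ E a').symm.trans (congrArg (fun k => appM k E a') (c'.w _))
    obtain ⟨k, g, hg⟩ := hi E m z (by rw [hw c, e, sub_self])
    have h0 : appM (s.ι.app m) E z = 0 := by
      refine (congrArg (fun k => appM k E z) (s.w g)).symm.trans ((appM_comp _ _ E z).trans ?_)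
      rw [hg, map_zero]
    rw [hw s, sub_eq_zero] at h0
    exact h0
  choose j₀ a₀ ha₀ using fun (E : EtOver X) (hE : IsAffine E.obj.left.left) (t : sectModEt c.pt E) => hs E t
  let φ : ∀ (s : Cocone D) (E : EtOver X) (_ : IsAffine E.obj.left.left), sectModEt c.pt E → sectModEt s.pt E :=
    fun s E hE t => appM (s.ι.app (j₀ E hE t)) E (a₀ E hE t)
  have hφ : ∀ (s : Cocone D) (E : EtOver X) (hE : IsAffine E.obj.left.left) (j : J) (a : sectModEt (D.obj j) E),
      appM (s.ι.app j) E a = φ s E hE (appM (c.ι.app j) E a) :=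
    fun s E hE j a => compat s E j _ a _ (ha₀ E hE _).symm
  have key : ∀ s : Cocone D, ∃ d : c.pt ⟶ s.pt, ∀ (E : EtOver X) (hE : IsAffine E.obj.left.left) (t : sectModEt c.pt E),
      appM d E t = φ s E hE t := by
    intro s
    refine exists_hom_of_affine (φ s) ?_ ?_ ?_
    · intro E hE t t'
      let j := IsFiltered.max (j₀ E hE t) (j₀ E hE t')
      let f₁ : j₀ E hE t ⟶ j := IsFiltered.leftToMax _ _
      let f₂ : j₀ E hE t' ⟶ j := IsFiltered.rightToMax _ _
      have h1 : appM (c.ι.app j) E (appM (D.map f₁) E (a₀ E hE t)) = t :=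
        ((appM_comp _ _ E _).symm.trans (congrArg (fun k => appM k E _) (c.w f₁))).trans (ha₀ E hE t)
      have h2 : appM (c.ι.app j) E (appM (D.map f₂) E (a₀ E hE t')) = t' :=
        ((appM_comp _ _ E _).symm.trans (congrArg (fun k => appM k E _) (c.w f₂))).trans (ha₀ E hE t')
      conv_lhs => rw [← h1, ← h2]
      rw [← map_add, ← hφ, map_add, hφ s E hE, hφ s E hE, h1, h2]
    · intro E hE r t
      conv_lhs => rw [← ha₀ E hE t]
      rw [← map_smul, ← hφ, map_smul]
    · intro E E' hE hE' k t
      conv_lhs => rw [← ha₀ E hE t]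
      rw [← appM_resM, ← hφ, appM_resM]
      rfl
  choose d hd using key
  exact ⟨
    { desc := d
      fac := fun s j => hom_ext_affine fun E hE a => by
        rw [appM_comp, hd s E hE, ← hφ]
      uniq := fun s m hm => hom_ext_affine fun E hE t => by
        rw [hd s E hE]
        refine (congrArg _ (ha₀ E hE t)).symm.trans ((appM_comp _ _ E _).symm.trans ?_)
        exact congrArg (fun k => appM k E _) (hm _) }⟩

/-- Transport of quasi-coherence along an isomorphism. -/
theorem qcoh_of_iso {M N : ModEt X} (e : M ≅ N) [M.IsQuasicoherent] : N.IsQuasicoherent :=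
  (SheafOfModules.isQuasicoherent (OEtRing X)).prop_of_iso e ‹M.IsQuasicoherent›

/-- A quasi-coherent quotient of a module of finite type is of finite type. -/
theorem isFiniteType_of_epi {M Q : ModEt X} [M.IsQuasicoherent] [M.IsFiniteType] [Q.IsQuasicoherent]
    (π : M ⟶ Q) [Epi π] : Q.IsFiniteType :=
  isFiniteType_of_cover Q (fun E : {E : EtOver X // IsAffine E.obj.left.left} => E.1) coversTop_affine
    (fun E => E.2) fun E => haveI := E.2; finite_of_epi π E.1

/-- A cokernel of a map from a finite type to a finitely presented module is finitely presented. -/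
theorem isFinitePresentation_cokernel {A P : ModEt X} [A.IsQuasicoherent] [A.IsFiniteType]
    [P.IsFinitePresentation] (f : A ⟶ P) : (cokernel f).IsFinitePresentation := by
  haveI : (cokernel f).IsQuasicoherent :=
    isQuasicoherent_of_hasBC (hasBC_cokernel (hasBC_of_isQuasicoherent _) (hasBC_of_isQuasicoherent _) _)
  refine isFinitePresentation_of_forall _ fun E _ => ?_
  haveI := finitePresentation_sectModEt P E
  haveI := finite_sectModEt A E
  have he : LinearMap.ker (appM (cokernel.π f) E) = LinearMap.range (appM f E) := by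
    ext x
    refine ⟨fun hx => exists_preimage_of_cokernel f E x hx, ?_⟩
    rintro ⟨a, rfl⟩
    exact appM_comp_eq_zero (cokernel.condition f) E a
  refine Module.finitePresentation_of_surjective (appM (cokernel.π f) E) (appM_surjective_of_epi (cokernel.π f) E) ?_
  rw [he]
  exact Submodule.fg_range _

variable {M : ModEt X}

/-- The image of a map as a subobject. -/
abbrev img {P : ModEt X} (f : P ⟶ M) : Subobject M := kernelSubobject (cokernel.π f)

theorem isQuasicoherent_img [M.IsQuasicoherent] {P : ModEt X} [P.IsQuasicoherent] (f : P ⟶ M) :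
    (Subobject.underlying.obj (img f)).IsQuasicoherent := by
  haveI : (kernel (cokernel.π f)).IsQuasicoherent := isQuasicoherent_of_hasBC
    (hasBC_kernel (hasBC_of_isQuasicoherent M)
      (hasBC_cokernel (hasBC_of_isQuasicoherent P) (hasBC_of_isQuasicoherent M) f) _)
  exact qcoh_of_iso (kernelSubobjectIso (cokernel.π f)).symm

theorem isFiniteType_img [M.IsQuasicoherent] {P : ModEt X} [P.IsQuasicoherent] [P.IsFiniteType] (f : P ⟶ M) :
    (Subobject.underlying.obj (img f)).IsFiniteType := by
  haveI := isQuasicoherent_img f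
  haveI : Epi (Abelian.factorThruImage f ≫ (kernelSubobjectIso (cokernel.π f)).inv) := epi_comp _ _
  exact isFiniteType_of_epi (Abelian.factorThruImage f ≫ (kernelSubobjectIso (cokernel.π f)).inv)

theorem le_img {N : Subobject M} {P : ModEt X} {f : P ⟶ M} (h : N.arrow ≫ cokernel.π f = 0) : N ≤ img f :=
  le_kernelSubobject _ N h

/-- The condition defining the finite type quasi-coherent submodules. -/
abbrev FTSub (M : ModEt X) : ObjectProperty (Subobject M) :=
  fun N => (Subobject.underlying.obj N).IsQuasicoherent ∧ (Subobject.underlying.obj N).IsFiniteType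

section Stage

variable [QuasiSeparatedSpace ↥S] {I : Type (u + 1)} [SmallCategory I] [IsFiltered I] {D : I ⥤ ModEt X}
  (c : Cocone D) (hc : IsColimit c)

omit [QuasiSeparatedSpace ↥S] [IsFiltered I] in
/-- Being killed by the cokernel of a stage persists. -/
theorem comp_cokernel_mono {N : ModEt X} {a : N ⟶ c.pt} {i k : I} (α : i ⟶ k)
    (h : a ≫ cokernel.π (c.ι.app i) = 0) : a ≫ cokernel.π (c.ι.app k) = 0 := by
  have h0 : c.ι.app i ≫ cokernel.π (c.ι.app k) = 0 := by
    refine (congrArg (· ≫ cokernel.π (c.ι.app k)) (c.w α)).symm.trans ?_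
    exact (Category.assoc _ _ _).trans (by rw [cokernel.condition]; exact comp_zero)
  rw [← cokernel.π_desc (c.ι.app i) (cokernel.π (c.ι.app k)) h0]
  rw [← Category.assoc, h, zero_comp]

include hc in
/-- A map from a finite type module factors through the image of a stage. -/
theorem exists_factor_stage (hX : IsAlgSpace X) (hqc : IsQuasiCompactSp X) (hqs : IsQuasiSeparatedSp X)
    {N : ModEt X} [N.IsQuasicoherent] [N.IsFiniteType] (a : N ⟶ c.pt) :
    ∃ j, a ≫ cokernel.π (c.ι.app j) = 0 := by
  classical
  obtain ⟨V, q, hV, hqe, hqs'⟩ := Groth.AlgSpBasic.exists_affine_chart hX hqc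
  obtain ⟨U, hUa, hsurj⟩ : ∃ U : EtOver X, IsAffine U.obj.left.left ∧
      Function.Surjective (Points.ofPt U.obj.hom) :=
    ⟨AlgSp.EtOver.mk q hqe, hV, Groth.AlgSpBasic.surjective_ofPt_of_repWith hqs'⟩
  obtain ⟨T, hT⟩ := (finite_sectModEt N U).fg_top
  choose L t ht using fun x : sectModEt N U => ColimSections.exists_stage hc U (appM a U x)
  obtain ⟨j, hj⟩ := IsFiltered.sup_objs_exists (T.image L)
  refine ⟨j, eq_zero_of_chart hqs hsurj _ fun x => ?_⟩
  have hx : x ∈ Submodule.span (fnA U) (T : Set _) := hT ▸ Submodule.mem_top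
  induction hx using Submodule.span_induction with
  | mem y hy =>
    refine (appM_comp _ _ U y).trans ?_
    rw [← ht y, ← ColimSections.appM_w (c := c) (hj (Finset.mem_image_of_mem L hy)).some U (t y)]
    exact appM_comp_eq_zero (cokernel.condition _) U _
  | zero => exact map_zero _
  | add y y' _ _ hy hy' => rw [map_add, hy, hy', add_zero]
  | smul r y _ hy => rw [map_smul, hy, smul_zero]

end Stage

/-- On a qcqs space the finite type quasi-coherent submodules form a filtered union. -/
theorem isFiltered_ftSub_and_isColimit [QuasiSeparatedSpace ↥S] (hX : IsAlgSpace X) (hqc : IsQuasiCompactSp X)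
    (hqs : IsQuasiSeparatedSp X) (M : ModEt X) [M.IsQuasicoherent]
    (ι : (FTSub M).ι ⋙ Subobject.underlying ⟶ (Functor.const (FTSub M).FullSubcategory).obj M)
    (hι : ∀ N : (FTSub M).FullSubcategory, ι.app N = N.obj.arrow) :
    IsFiltered (FTSub M).FullSubcategory ∧ Nonempty (IsColimit (Cocone.mk M ι)) := by
  classical
  obtain ⟨I, i1, i2, D, c, hfp, ⟨hc⟩, rfl⟩ := exists_fp_system hX hqc hqs M
  have hmem : ∀ i, FTSub c.pt (img (c.ι.app i)) := fun i =>
    haveI := hfp i
    ⟨isQuasicoherent_img _, isFiniteType_img _⟩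
  haveI : Nonempty (FTSub c.pt).FullSubcategory := ⟨⟨_, hmem IsFiltered.nonempty.some⟩⟩
  have le_stage : ∀ N : (FTSub c.pt).FullSubcategory, ∃ i, N.obj.arrow ≫ cokernel.π (c.ι.app i) = 0 := fun N =>
    haveI := N.property.1
    haveI := N.property.2
    exists_factor_stage c hc hX hqc hqs N.obj.arrow
  haveI : IsFilteredOrEmpty (FTSub c.pt).FullSubcategory :=
    ⟨fun A B => by
      obtain ⟨i, hi⟩ := le_stage A
      obtain ⟨k, hk⟩ := le_stage B
      exact ⟨⟨_, hmem (IsFiltered.max i k)⟩,
        ObjectProperty.homMk (homOfLE (le_img (comp_cokernel_mono c (IsFiltered.leftToMax i k) hi))),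
        ObjectProperty.homMk (homOfLE (le_img (comp_cokernel_mono c (IsFiltered.rightToMax i k) hk))), trivial⟩,
      fun A B f g => ⟨B, 𝟙 _, by
        rw [Category.comp_id, Category.comp_id]; exact ObjectProperty.hom_ext _ (Subsingleton.elim _ _)⟩⟩
  haveI : IsFiltered (FTSub c.pt).FullSubcategory := IsFiltered.mk
  refine ⟨inferInstance, isColimit_of_affine' _ (fun E _ t => ?_) fun E _ N a ha => ⟨N, 𝟙 N, ?_⟩⟩
  · obtain ⟨i, b, hb⟩ := ColimSections.exists_stage hc E t
    let l := factorThruKernelSubobject (cokernel.π (c.ι.app i)) (c.ι.app i) (cokernel.condition _)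
    refine ⟨⟨_, hmem i⟩, appM l E b, ?_⟩
    refine (appM_comp _ _ E b).symm.trans (Eq.trans ?_ hb)
    exact congrArg (fun k => appM k E b)
      ((congrArg (l ≫ ·) (hι ⟨_, hmem i⟩)).trans (factorThruKernelSubobject_comp_arrow _ _ _))
  · have h0 : a = 0 := appM_injective_of_mono N.obj.arrow E
      (((congrArg (fun k => appM k E a) (hι N)).symm.trans ha).trans (map_zero _).symm)
    rw [h0]
    exact map_zero _

end

end Groth.AlgSp2.ModApprox
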