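import Groth.Agent.AlgSp2.ModApprox.SiteEquiv
import Groth.Agent.AlgSpBasic.StrataAbsolute
import Groth.Agent.ModEtQCoh.AffinePres
import Groth.Agent.ModEtQCoh.ColimSections

/-!
# Quasi-coherent modules on qcqs spaces as colimits
-/

set_option autoImplicit false
set_option backward.isDefEq.respectTransparency.types false
set_option linter.style.haveILetI false
set_option maxHeartbeats 1600000
universe u

open CategoryTheory CategoryTheory.Limits AlgebraicGeometry Opposite AlgSp

namespace Groth.AlgSp2.ModApprox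

open Groth.ModEtQCoh Groth.ModEtQCoh.AffinePres Groth.ModEtQCoh.CoherentUnion

noncomputable section

variable {S : Scheme.{u}} [QuasiSeparatedSpace ↥S] {X : Sp S}

/-- A quasi-coherent module on a qcqs space is a filtered colimit of finitely presented ones. -/
theorem exists_fp_system (hX : IsAlgSpace X) (hqc : IsQuasiCompactSp X) (hqs : IsQuasiSeparatedSp X)
    (M : ModEt X) [M.IsQuasicoherent] :
    ∃ (J : Type (u + 1)) (_ : SmallCategory J) (_ : IsFiltered J) (D : J ⥤ ModEt X) (c : Cocone D),
      (∀ j, (D.obj j).IsFinitePresentation) ∧ Nonempty (IsColimit c) ∧ c.pt = M := by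
  let S' : Scheme.{u} := Spec (CommRingCat.of (ULift.{u} ℤ))
  let γ : S ⟶ S' := specULiftZIsTerminal.from S
  have : IsNoetherianRing (ULift.{u} ℤ) := isNoetherianRing_of_ringEquiv ℤ ULift.ringEquiv.symm
  obtain ⟨X₀, a, hX₀, hc₀, hs₀, hN₀, ha⟩ :=
    Groth.AlgSpBasic.FiniteStrata.exists_noetherian_model γ hX hqc hqs
  have hX' : IsAlgSpace ((Groth.AlgSp3.shriek γ).obj X) := (Groth.AlgSp3.isAlgSpace_shriek_iff γ X).2 hX
  have haff : RepWith @IsAffineHom a := Groth.AlgSpBasic.isAffineMor_iff_repWith.1 ha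
  obtain ⟨V, q, hV, hqe, hqs'⟩ := Groth.AlgSpBasic.exists_affine_chart hX₀ hc₀
  let σ : Setup a :=
    { hf := haff.rep
      haff := haff
      hY := hX₀
      hXqs := Groth.AlgSp2.Approx.isQuasiSeparatedSp_of_affineMor hX' ha hs₀
      hqs := hs₀
      hN := hN₀
      U := AlgSp.EtOver.mk q hqe
      hU := hV
      hsurj := Groth.AlgSpBasic.surjective_ofPt_of_repWith hqs' }
  let M' := (modEquiv γ X).inverse.obj M
  obtain ⟨hc⟩ := Setup.isColimit_cocone (σ := σ) (M := M')
  let T := (modEquiv γ X).functor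
  let e : T.obj M' ≅ M := (modEquiv γ X).counitIso.app M
  let c : Cocone (σ.diagram M' ⋙ T) := (T.mapCocone (σ.cocone M')).extend e.hom
  refine ⟨σ.Cat M', inferInstance, inferInstance, σ.diagram M' ⋙ T, c, fun i => ?_,
    ⟨IsColimit.ofIsoColimit (isColimitOfPreserves T hc) (Cocone.ext e fun i => rfl)⟩, rfl⟩
  haveI : ((σ.diagram M').obj i).IsQuasicoherent :=
    inferInstanceAs ((Setup.obj (σ := σ) (M := M') i).left : ModEt _).IsQuasicoherent
  haveI : ((σ.diagram M').obj i).IsFinitePresentation := Setup.isFinitePresentation_obj (σ := σ) i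
  exact isFinitePresentation_functor γ X ((σ.diagram M').obj i)

end

end Groth.AlgSp2.ModApprox
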